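import Groth.Prelude.Def_CycAlg
import Mathlib.RingTheory.Localization.Away.Basic
import Mathlib.RingTheory.Localization.AtPrime.Basic
import Mathlib.RingTheory.Localization.BaseChange
import Mathlib.RingTheory.KrullDimension.Basic
import Mathlib.RingTheory.Noetherian.Basic
import Mathlib.RingTheory.Ideal.MinimalPrime.Basic
import Mathlib.RingTheory.Ideal.MinimalPrime.Localization
import Mathlib.RingTheory.Ideal.AssociatedPrime.Basic
import Mathlib.RingTheory.TensorProduct.Maps

/-!
# Gluing finite extensions of the localizations at the primes of height one containing `t`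
-/

set_option autoImplicit false

universe u v

namespace K733.Glue

section One

variable {A : Type u} [CommRing A] (t : A) (B : Type v) [CommRing B] [Algebra A B]

/-- `A[1/t]`. -/
abbrev L : Type u := Localization.Away t

/-- `B[1/t]`. -/
abbrev K : Type v := Localization.Away (algebraMap A B t)

theorem isUnit_K (y : Submonoid.powers t) : IsUnit (Algebra.ofId A (K t B) (y : A)) := by
  obtain ⟨_, n, rfl⟩ := y
  have h : IsUnit (Algebra.ofId A (K t B) t) := by
    have h1 := IsLocalization.Away.algebraMap_isUnit (S := K t B) (algebraMap A B t)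
    rw [← IsScalarTower.algebraMap_apply A B (K t B)] at h1
    exact h1
  simpa only [map_pow] using h.pow n

/-- `A[1/t] → B[1/t]`. -/
noncomputable def ψ : L t →ₐ[A] K t B :=
  IsLocalization.liftAlgHom (M := Submonoid.powers t) (f := Algebra.ofId A (K t B)) (isUnit_K t B)

/-- The elements of `A[1/t]` whose image lies in `B`. -/
noncomputable def S : Subalgebra A (L t) := (IsScalarTower.toAlgHom A B (K t B)).range.comap (ψ t B)

theorem mem_S {x : L t} : x ∈ S t B ↔ ∃ b : B, algebraMap B (K t B) b = ψ t B x := Iff.rfl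

variable {t B}

theorem inj_K (ht : ∀ b : B, t • b = 0 → b = 0) : Function.Injective (algebraMap B (K t B)) := by
  refine IsLocalization.injective (K t B) (M := Submonoid.powers (algebraMap A B t)) ?_
  refine Submonoid.powers_le.2 ?_
  rw [mem_nonZeroDivisors_iff_right]
  intro x hx
  refine ht x ?_
  rw [Algebra.smul_def, mul_comm]
  exact hx

/-- The map `S → B`. -/
noncomputable def toB (ht : ∀ b : B, t • b = 0 → b = 0) : S t B →ₐ[A] B :=
  (AlgEquiv.ofInjective (IsScalarTower.toAlgHom A B (K t B)) (inj_K ht)).symm.toAlgHom.comp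
    (AlgHom.codRestrict ((ψ t B).comp (S t B).val) (IsScalarTower.toAlgHom A B (K t B)).range fun x => x.2)

theorem algebraMap_toB (ht : ∀ b : B, t • b = 0 → b = 0) (x : S t B) :
    algebraMap B (K t B) (toB ht x) = ψ t B x := by
  have h := AlgEquiv.apply_symm_apply (AlgEquiv.ofInjective (IsScalarTower.toAlgHom A B (K t B)) (inj_K ht))
    (AlgHom.codRestrict ((ψ t B).comp (S t B).val) (IsScalarTower.toAlgHom A B (K t B)).range (fun x => x.2) x)
  exact congrArg Subtype.val h

theorem toB_eq_iff (ht : ∀ b : B, t • b = 0 → b = 0) (x : S t B) (b : B) :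
    toB ht x = b ↔ ψ t B x = algebraMap B (K t B) b := by
  rw [← algebraMap_toB ht x]
  exact (inj_K ht).eq_iff.symm

/-- `t ^ n` acts injectively on `B[1/t]`. -/
theorem pow_smul_inj (n : ℕ) {x y : K t B} (h : t ^ n • x = t ^ n • y) : x = y := by
  rw [Algebra.smul_def, Algebra.smul_def] at h
  exact (isUnit_K t B ⟨t ^ n, n, rfl⟩).mul_right_injective h

theorem pow_smul_inj' (n : ℕ) {x y : L t} (h : t ^ n • x = t ^ n • y) : x = y := by
  rw [Algebra.smul_def, Algebra.smul_def] at h
  exact (IsLocalization.map_units (L t) (⟨t ^ n, n, rfl⟩ : Submonoid.powers t)).mul_right_injective h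

theorem exists_num (x : L t) : ∃ (n : ℕ) (a : A), t ^ n • x = algebraMap A (L t) a := by
  obtain ⟨⟨a, ⟨_, n, rfl⟩⟩, h⟩ := IsLocalization.surj (Submonoid.powers t) x
  refine ⟨n, a, ?_⟩
  rw [Algebra.smul_def, mul_comm]
  exact h

variable (t) in
/-- The elements `x` with `t ^ n x ∈ A`. -/
noncomputable def T (n : ℕ) : Submodule A (L t) :=
  (LinearMap.range (Algebra.linearMap A (L t))).comap (LinearMap.lsmul A (L t) (t ^ n))

theorem mem_T {n : ℕ} {x : L t} : x ∈ T t n ↔ ∃ a : A, algebraMap A (L t) a = t ^ n • x := Iff.rfl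

theorem fg_T [IsNoetherianRing A] (n : ℕ) : (T t n).FG := by
  have h : IsNoetherian A (LinearMap.range (Algebra.linearMap A (L t))) := inferInstance
  let f : T t n →ₗ[A] LinearMap.range (Algebra.linearMap A (L t)) :=
    ((LinearMap.lsmul A (L t) (t ^ n)).comp (T t n).subtype).codRestrict _ fun x => x.2
  have hf : Function.Injective f := by
    intro x y hxy
    exact Subtype.ext (pow_smul_inj' n (congrArg Subtype.val hxy))
  have : IsNoetherian A (T t n) := isNoetherian_of_injective f hf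
  exact (Submodule.fg_top _).1 (this.noetherian ⊤)

theorem algebraMap_mem_T (n : ℕ) (a : A) : algebraMap A (L t) a ∈ T t n :=
  mem_T.2 ⟨t ^ n * a, by rw [Algebra.smul_def, map_mul]⟩

theorem mul_mem_T {n m : ℕ} {x y : L t} (hx : x ∈ T t n) (hy : y ∈ T t m) : x * y ∈ T t (n + m) := by
  obtain ⟨a, ha⟩ := mem_T.1 hx
  obtain ⟨b, hb⟩ := mem_T.1 hy
  refine mem_T.2 ⟨a * b, ?_⟩
  rw [map_mul, ha, hb, pow_add]
  simp only [Algebra.smul_def, map_mul]
  ring

theorem inj_L (ht : t ∈ nonZeroDivisors A) : Function.Injective (algebraMap A (L t)) :=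
  IsLocalization.injective (L t) (M := Submonoid.powers t) (Submonoid.powers_le.2 ht)

end One

section Prime

variable {A : Type u} [CommRing A] {t : A} (q : Ideal A) [q.IsPrime]
  {B : Type v} [CommRing B] [Algebra A B] [Algebra (Localization.AtPrime q) B]
  [IsScalarTower A (Localization.AtPrime q) B]

include q in
theorem exists_smul_eq_zero (ht : ∀ b : B, t • b = 0 → b = 0)
    (hinj : Function.Injective (algebraMap (Localization.AtPrime q) B)) {x : L t} (hx : ψ t B x = 0) :
    ∃ s ∉ q, s • x = 0 := by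
  obtain ⟨n, a, ha⟩ := exists_num x
  have h1 : algebraMap B (K t B) (algebraMap A B a) = 0 := by
    have h2 := congrArg (ψ t B) ha
    rw [map_smul, hx, smul_zero, AlgHom.commutes, IsScalarTower.algebraMap_apply A B (K t B)] at h2
    exact h2.symm
  have h2 : algebraMap A B a = 0 := inj_K ht (h1.trans (map_zero _).symm)
  rw [IsScalarTower.algebraMap_apply A (Localization.AtPrime q) B] at h2
  have h3 : algebraMap A (Localization.AtPrime q) a = 0 := hinj (h2.trans (map_zero _).symm)
  obtain ⟨s, hs⟩ := (IsLocalization.map_eq_zero_iff q.primeCompl (Localization.AtPrime q) a).1 h3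
  refine ⟨s, s.2, pow_smul_inj' n ?_⟩
  rw [smul_comm, ha, smul_zero, Algebra.smul_def, ← map_mul, hs, map_zero]

/-- For `b` with `t ^ n b ∈ A_q`, a multiple of `b` by an element outside of `q` comes from `t^{-n}A`. -/
theorem exists_num_B {n : ℕ} {b : B} (hb : t ^ n • b ∈ (algebraMap (Localization.AtPrime q) B).range) :
    ∃ s ∉ q, ∃ x ∈ T t n, ψ t B x = algebraMap B (K t B) (s • b) := by
  obtain ⟨ρ, hρ⟩ := hb
  obtain ⟨⟨a, s⟩, h⟩ := IsLocalization.surj q.primeCompl ρ
  have h1 : s.1 • (t ^ n • b) = algebraMap A B a := by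
    rw [← hρ, Algebra.smul_def, IsScalarTower.algebraMap_apply A (Localization.AtPrime q) B,
      IsScalarTower.algebraMap_apply A (Localization.AtPrime q) B, ← map_mul, mul_comm]
    exact congrArg _ h
  refine ⟨s, s.2, IsLocalization.mk' (L t) a (⟨t ^ n, n, rfl⟩ : Submonoid.powers t), ?_, ?_⟩
  · refine mem_T.2 ⟨a, ?_⟩
    rw [Algebra.smul_def]
    exact (IsLocalization.mk'_spec' (L t) a (⟨t ^ n, n, rfl⟩ : Submonoid.powers t)).symm
  · refine pow_smul_inj (B := B) n ?_
    rw [← map_smul, Algebra.smul_def]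
    have h2 := IsLocalization.mk'_spec' (L t) a (⟨t ^ n, n, rfl⟩ : Submonoid.powers t)
    change ψ t B (algebraMap A (L t) (t ^ n) * IsLocalization.mk' (L t) a _) = _
    rw [h2, AlgHom.commutes, IsScalarTower.algebraMap_apply A B (K t B), ← h1]
    rw [smul_comm, ← IsScalarTower.toAlgHom_apply A B (K t B), ← IsScalarTower.toAlgHom_apply A B (K t B), map_smul]

end Prime

section Family

variable {A : Type u} [CommRing A] {t : A} {r : ℕ} (q : Fin r → Ideal A) [hq : ∀ i, (q i).IsPrime]
  (B : Fin r → Type v) [∀ i, CommRing (B i)] [∀ i, Algebra A (B i)]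
  [∀ i, Algebra (Localization.AtPrime (q i)) (B i)] [∀ i, IsScalarTower A (Localization.AtPrime (q i)) (B i)]

variable (t) in
/-- The elements of `t^{-n}A` whose images lie in all `B i`. -/
noncomputable def M (n : ℕ) : Submodule A (L t) := T t n ⊓ ⨅ i, Subalgebra.toSubmodule (S t (B i))

variable {B}

omit hq [∀ i, Algebra (Localization.AtPrime (q i)) (B i)] [∀ i, IsScalarTower A (Localization.AtPrime (q i)) (B i)] in
theorem mem_M {n : ℕ} {x : L t} : x ∈ M t B n ↔ x ∈ T t n ∧ ∀ i, x ∈ S t (B i) := by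
  unfold M
  rw [Submodule.mem_inf, Submodule.mem_iInf]
  rfl

omit hq [∀ i, Algebra (Localization.AtPrime (q i)) (B i)] [∀ i, IsScalarTower A (Localization.AtPrime (q i)) (B i)] in
theorem algebraMap_mem_M (n : ℕ) (a : A) : algebraMap A (L t) a ∈ M t B n :=
  mem_M.2 ⟨algebraMap_mem_T n a, fun i => (S t (B i)).algebraMap_mem a⟩

omit hq [∀ i, Algebra (Localization.AtPrime (q i)) (B i)] [∀ i, IsScalarTower A (Localization.AtPrime (q i)) (B i)] in
theorem mul_mem_M {n m : ℕ} {x y : L t} (hx : x ∈ M t B n) (hy : y ∈ M t B m) : x * y ∈ M t B (n + m) :=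
  mem_M.2 ⟨mul_mem_T (mem_M.1 hx).1 (mem_M.1 hy).1, fun i => (S t (B i)).mul_mem ((mem_M.1 hx).2 i) ((mem_M.1 hy).2 i)⟩

omit hq [∀ i, Algebra (Localization.AtPrime (q i)) (B i)] [∀ i, IsScalarTower A (Localization.AtPrime (q i)) (B i)] in
theorem M_le_T (n : ℕ) : M t B n ≤ T t n := fun _ hx => (mem_M.1 hx).1

/-- Every element of `B i` is up to `A ∖ q i` the image of an element of `M n`. -/
theorem exists_M (ht : ∀ i, ∀ b : B i, t • b = 0 → b = 0) {n : ℕ}
    (hb : ∀ i, ∀ b : B i, t ^ n • b ∈ (algebraMap (Localization.AtPrime (q i)) (B i)).range)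
    (hsep : ∀ i j, i ≠ j → ∃ s ∉ q i, ∃ ρ : Localization.AtPrime (q j),
      algebraMap A _ s = algebraMap A _ (t ^ n) * ρ) (i : Fin r) (b : B i) :
    ∃ s ∉ q i, ∃ x ∈ M t B n, ψ t (B i) x = algebraMap (B i) (K t (B i)) (s • b) := by
  classical
  obtain ⟨s₀, hs₀, x₀, hx₀, h₀⟩ := exists_num_B (q i) (hb i b)
  have hsep' : ∀ j, ∃ s ∉ q i, i ≠ j → ∃ ρ : Localization.AtPrime (q j),
      algebraMap A _ s = algebraMap A _ (t ^ n) * ρ := by
    intro j
    by_cases h : i = j
    · exact ⟨1, (Ideal.ne_top_iff_one _).1 (hq i).ne_top, fun h' => (h' h).elim⟩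
    · obtain ⟨s, hs, hρ⟩ := hsep i j h
      exact ⟨s, hs, fun _ => hρ⟩
  choose s hs hρ using hsep'
  have hprod : ∏ j, s j ∉ q i := by
    rw [(hq i).prod_mem_iff]
    rintro ⟨j, _, hj⟩
    exact hs j hj
  refine ⟨(∏ j, s j) * s₀, fun h => ?_, (∏ j, s j) • x₀, mem_M.2 ⟨Submodule.smul_mem _ _ hx₀, fun j => ?_⟩, ?_⟩
  · rcases (hq i).mem_or_mem h with h | h
    · exact hprod h
    · exact hs₀ h
  · by_cases hij : i = j
    · subst hij
      refine Subalgebra.smul_mem _ ?_ _
      exact (mem_S t (B i)).2 ⟨s₀ • b, h₀.symm⟩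
    · obtain ⟨ρ, hρ'⟩ := hρ j hij
      obtain ⟨a, ha⟩ := mem_T.1 hx₀
      rw [← Finset.prod_erase_mul _ _ (Finset.mem_univ j), mul_smul]
      refine Subalgebra.smul_mem _ ?_ _
      refine (mem_S t (B j)).2 ⟨algebraMap _ (B j) ρ * algebraMap A (B j) a, ?_⟩
      refine pow_smul_inj (B := B j) n ?_
      have h2 : algebraMap A (B j) (s j) = algebraMap A (B j) (t ^ n) * algebraMap _ (B j) ρ := by
        rw [IsScalarTower.algebraMap_apply A (Localization.AtPrime (q j)) (B j), hρ', map_mul,
          ← IsScalarTower.algebraMap_apply A (Localization.AtPrime (q j)) (B j)]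
      rw [← map_smul (ψ t (B j)) (t ^ n), smul_comm, ← ha, Algebra.smul_def (s j), ← map_mul, AlgHom.commutes,
        IsScalarTower.algebraMap_apply A (B j) (K t (B j)), Algebra.smul_def (t ^ n),
        IsScalarTower.algebraMap_apply A (B j) (K t (B j)), ← map_mul, ← mul_assoc, ← h2, ← map_mul]
  · rw [map_smul, h₀, mul_smul, ← IsScalarTower.toAlgHom_apply A (B i) (K t (B i)),
      ← IsScalarTower.toAlgHom_apply A (B i) (K t (B i)), map_smul]
    simp only [map_smul]

include q in
theorem exists_smul_mem_M (ht : ∀ i, ∀ b : B i, t • b = 0 → b = 0)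
    (hinj : ∀ i, Function.Injective (algebraMap (Localization.AtPrime (q i)) (B i))) {n : ℕ}
    (hb : ∀ i, ∀ b : B i, t ^ n • b ∈ (algebraMap (Localization.AtPrime (q i)) (B i)).range)
    (hsep : ∀ i j, i ≠ j → ∃ s ∉ q i, ∃ ρ : Localization.AtPrime (q j),
      algebraMap A _ s = algebraMap A _ (t ^ n) * ρ) (i : Fin r) {m : ℕ} {x : L t} (hx : x ∈ M t B m) :
    ∃ s ∉ q i, s • x ∈ M t B n := by
  obtain ⟨b, hb'⟩ := (mem_S t (B i)).1 ((mem_M.1 hx).2 i)
  obtain ⟨s, hs, y, hy, h⟩ := exists_M q ht hb hsep i b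
  have h1 : ψ t (B i) (s • x - y) = 0 := by
    rw [map_sub, map_smul, ← hb', h, ← IsScalarTower.toAlgHom_apply A (B i) (K t (B i)),
      ← IsScalarTower.toAlgHom_apply A (B i) (K t (B i)), map_smul, sub_self]
  obtain ⟨s', hs', h2⟩ := exists_smul_eq_zero (q i) (ht i) (hinj i) h1
  refine ⟨s' * s, fun h => ?_, ?_⟩
  · rcases (hq i).mem_or_mem h with h | h
    · exact hs' h
    · exact hs h
  · rw [smul_sub, sub_eq_zero] at h2
    rw [mul_smul, h2]
    exact Submodule.smul_mem _ _ hy

variable [IsNoetherianRing A] [IsLocalRing A]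

include q in
open IsLocalRing in
theorem exists_pow_smul_le (ht : ∀ i, ∀ b : B i, t • b = 0 → b = 0)
    (hinj : ∀ i, Function.Injective (algebraMap (Localization.AtPrime (q i)) (B i))) {n : ℕ}
    (hb : ∀ i, ∀ b : B i, t ^ n • b ∈ (algebraMap (Localization.AtPrime (q i)) (B i)).range)
    (hsep : ∀ i j, i ≠ j → ∃ s ∉ q i, ∃ ρ : Localization.AtPrime (q j),
      algebraMap A _ s = algebraMap A _ (t ^ n) * ρ)
    (hV : ∀ p : Ideal A, p.IsPrime → t ∈ p → p = maximalIdeal A ∨ ∃ i, p = q i) (m : ℕ) :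
    ∃ c : ℕ, ∀ a ∈ maximalIdeal A ^ c, ∀ x ∈ M t B m, a • x ∈ M t B n := by
  have hfg : (M t B m).FG := by
    have h1 : IsNoetherian A (T t m) := by
      have := fg_T (t := t) m
      exact isNoetherian_of_fg_of_noetherian _ this
    have h2 : IsNoetherian A (M t B m) := isNoetherian_of_le (M_le_T m)
    exact (Submodule.fg_top _).1 (h2.noetherian ⊤)
  obtain ⟨G, hG⟩ := hfg
  let J : Ideal A := (M t B n).colon (M t B m : Set (L t))
  have hJ : ∀ a : A, a ∈ J ↔ ∀ x ∈ M t B m, a • x ∈ M t B n := fun a => Submodule.mem_colon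
  have hJG : ∀ a : A, (∀ x ∈ G, a • x ∈ M t B n) → a ∈ J := by
    intro a ha
    rw [hJ]
    intro x hx
    rw [← hG] at hx
    induction hx using Submodule.span_induction with
    | mem x hx => exact ha x hx
    | zero => rw [smul_zero]; exact zero_mem _
    | add x y _ _ hx hy => rw [smul_add]; exact add_mem hx hy
    | smul b x _ hx => rw [smul_comm]; exact Submodule.smul_mem _ _ hx
  have hrad : maximalIdeal A ≤ J.radical := by
    rw [Ideal.radical_eq_sInf]
    refine le_sInf ?_
    rintro p ⟨hJp, hp⟩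
    have htp : t ∈ p := by
      refine hp.mem_of_pow_mem m (hJp ((hJ _).2 fun x hx => ?_))
      obtain ⟨a, ha⟩ := mem_T.1 (mem_M.1 hx).1
      rw [← ha]
      exact algebraMap_mem_M n a
    rcases hV p hp htp with h | ⟨i, rfl⟩
    · exact h.ge
    · exfalso
      classical
      have h1 : ∀ x : L t, ∃ s ∉ q i, x ∈ M t B m → s • x ∈ M t B n := by
        intro x
        by_cases hx : x ∈ M t B m
        · obtain ⟨s, hs, h⟩ := exists_smul_mem_M q ht hinj hb hsep i hx
          exact ⟨s, hs, fun _ => h⟩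
        · exact ⟨1, (Ideal.ne_top_iff_one _).1 (hq i).ne_top, fun h => (hx h).elim⟩
      choose s hs hs' using h1
      have hprod : ∏ x ∈ G, s x ∉ q i := by
        rw [(hq i).prod_mem_iff]
        rintro ⟨j, _, hj⟩
        exact hs j hj
      refine hprod (hJp (hJG _ fun x hx => ?_))
      rw [← Finset.prod_erase_mul _ _ hx, mul_smul]
      refine Submodule.smul_mem _ _ (hs' x ?_)
      rw [← hG]
      exact Submodule.subset_span hx
  obtain ⟨c, hc⟩ := Ideal.exists_pow_le_of_le_radical_of_fg hrad (isNoetherian_def.1 inferInstance _)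
  exact ⟨c, fun a ha => (hJ a).1 (hc ha)⟩

end Family

/-- The subalgebra `A + I M`. -/
def sub {A : Type u} [CommRing A] {R : Type v} [CommRing R] [Algebra A R] (I : Ideal A) (M : Submodule A R)
    (h : ∀ x ∈ M, ∀ y ∈ M, ∀ a ∈ I, a • (x * y) ∈ M) : Subalgebra A R where
  carrier := {x | ∃ a : A, ∃ y ∈ I • M, x = algebraMap A R a + y}
  mul_mem' := by
    rintro _ _ ⟨a, y, hy, rfl⟩ ⟨b, z, hz, rfl⟩
    have key : y * z ∈ I • M := by
      refine Submodule.smul_induction_on hy (fun i hi x hx => ?_) (fun x x' hx hx' => ?_)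
      · refine Submodule.smul_induction_on hz (fun j hj x' hx' => ?_) (fun w w' hw hw' => ?_)
        · have h1 : (i • x) * (j • x') = i • (j • (x * x')) := by
            simp only [Algebra.smul_def]
            ring
          rw [h1]
          exact Submodule.smul_mem_smul hi (h x hx x' hx' j hj)
        · rw [mul_add]
          exact add_mem hw hw'
      · rw [add_mul]
        exact add_mem hx hx'
    refine ⟨a * b, a • z + (b • y + y * z), add_mem (Submodule.smul_mem _ _ hz) (add_mem (Submodule.smul_mem _ _ hy) key), ?_⟩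
    rw [map_mul, Algebra.smul_def, Algebra.smul_def]
    ring
  add_mem' := by
    rintro _ _ ⟨a, y, hy, rfl⟩ ⟨b, z, hz, rfl⟩
    refine ⟨a + b, y + z, add_mem hy hz, ?_⟩
    rw [map_add]
    ring
  algebraMap_mem' := fun a => ⟨a, 0, zero_mem _, (add_zero _).symm⟩

end K733.Glue
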