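import Groth.Agent.CycA.LocLen
import Mathlib.RingTheory.KrullDimension.Module
import Mathlib.RingTheory.Spectrum.Prime.Topology

/-!
# Cokernels of injective endomorphisms in dimension one have finite length
-/

set_option autoImplicit false

universe u v

namespace K733.LenInj

open Groth.Agent.CycA

/-- If `p` is minimal in the support of the finite module `M`, then `M_p` has finite length. -/
theorem length_loc_ne_top {A : Type u} [CommRing A] [IsNoetherianRing A] {p : PrimeSpectrum A}
    {M : Type v} [AddCommGroup M] [Module A M] [hM : Module.Finite A M]
    (h : ∀ q ∈ Module.support A M, q ≤ p → q = p) :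
    Module.length (Localization.AtPrime p.asIdeal) (LocalizedModule p.asIdeal.primeCompl M) ≠ ⊤ := by
  revert h
  induction hM using IsNoetherianRing.induction_on_isQuotientEquivQuotientPrime A with
  | subsingleton N =>
    intro _
    have : p ∉ Module.support A N := by
      rw [Module.support_eq_empty]
      exact Set.notMem_empty _
    rw [(LocLen.length_loc_eq_zero_iff p).mpr this]
    exact ENat.zero_ne_top
  | quotient N q e =>
    intro h
    by_cases hq : q ≤ p
    · have : q = p := h q (by
        rw [e.support_eq, Module.support_eq_zeroLocus, Ideal.annihilator_quotient]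
        exact fun x hx => hx) hq
      subst this
      rw [LocLen.length_loc_equiv q.asIdeal e, LocLen.length_loc_quotient_self q.asIdeal]
      exact ENat.one_ne_top
    · have : p ∉ Module.support A N := by
        rw [e.support_eq, Module.support_eq_zeroLocus, Ideal.annihilator_quotient]
        exact hq
      rw [(LocLen.length_loc_eq_zero_iff p).mpr this]
      exact ENat.zero_ne_top
  | exact N₁ N₂ N₃ f g hf hg hfg h₁ h₃ =>
    intro h
    rw [LocLen.length_loc_add p.asIdeal f g hf hg hfg]
    exact WithTop.add_ne_top.mpr
      ⟨h₁ fun q hq => h q (Module.support_subset_of_injective f hf hq),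
        h₃ fun q hq => h q (Module.support_subset_of_surjective g hg hq)⟩

open IsLocalRing in
/-- Primes of the support other than the maximal ideal are minimal in the support. -/
theorem minimal_of_ne {R : Type u} [CommRing R] [IsLocalRing R] {M : Type v} [AddCommGroup M]
    [Module R M] [Module.Finite R M] (h1 : Module.supportDim R M ≤ 1) {p q : PrimeSpectrum R}
    (hp : p ∈ Module.support R M) (hq : q ∈ Module.support R M)
    (hpm : p.asIdeal ≠ maximalIdeal R) (hqp : q ≤ p) : q = p := by
  rw [Module.supportDim, Order.krullDim_le_one_iff] at h1
  have hlt : p < closedPoint R := by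
    refine lt_of_le_of_ne (le_maximalIdeal p.2.ne_top) ?_
    intro h
    exact hpm (congrArg PrimeSpectrum.asIdeal h)
  have hm : closedPoint R ∈ Module.support R M := Module.mem_support_mono hlt.le hp
  rcases h1 ⟨p, hp⟩ with h | h
  · exact le_antisymm hqp (h (b := ⟨q, hq⟩) hqp)
  · exact absurd (h (b := ⟨closedPoint R, hm⟩) hlt.le) (not_le_of_gt hlt)

/-- The cokernel of an injective endomorphism of a finite module with support of dimension at most
one over a Noetherian local ring has finite length. -/
theorem length_quot_range_ne_top {A : Type u} [CommRing A] [IsNoetherianRing A] [IsLocalRing A]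
    {M : Type v} [AddCommGroup M] [Module A M] [Module.Finite A M]
    (h1 : Module.supportDim A M ≤ 1) (f : M →ₗ[A] M) (hf : Function.Injective f) :
    Module.length A (M ⧸ LinearMap.range f) ≠ ⊤ := by
  refine LocLen.length_ne_top_of_support_subset inferInstance ?_
  intro p hp
  have hpM : p ∈ Module.support A M :=
    Module.support_subset_of_surjective (LinearMap.range f).mkQ (Submodule.mkQ_surjective _) hp
  by_contra hmax
  have hpm : p.asIdeal ≠ IsLocalRing.maximalIdeal A := fun h => hmax (h ▸ inferInstance)
  have hfin := length_loc_ne_top (p := p) (M := M) fun q hq hqp => minimal_of_ne h1 hpM hq hpm hqp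
  have hadd := LocLen.length_loc_add p.asIdeal f (LinearMap.range f).mkQ hf
    (Submodule.mkQ_surjective _) (LinearMap.exact_map_mkQ_range f)
  rw [eq_comm] at hadd
  have h0 : Module.length (Localization.AtPrime p.asIdeal)
      (LocalizedModule p.asIdeal.primeCompl (M ⧸ LinearMap.range f)) = 0 := by
    apply ENat.add_right_injective_of_ne_top hfin
    change _ + _ = _ + (0 : ℕ∞)
    rw [hadd, add_zero]
  exact (LocLen.length_loc_eq_zero_iff p).mp h0 hp

end K733.LenInj
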